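import Cfsg.Agent.Spor.Chk

set_option autoImplicit false
set_option maxRecDepth 100000000
set_option Elab.async false
noncomputable section

namespace Cfsg.Agent.Spor.M11b

def m0_0 : Nat := nat_lit 0xc0a00003
def m0_1 : Nat := nat_lit 0x2840000ea49
def m0_2 : Nat := nat_lit 0x4000a400280002
def m0_3 : Nat := nat_lit 0x2020c0404030207
def m0_4 : Nat := nat_lit 0x2001111012000112
def m0_5 : Nat := nat_lit 0x41404141041444
def m0_6 : Nat := nat_lit 0x1101010000011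
def m0_7 : Nat := nat_lit 0x202040800040101
def m0_8 : Nat := nat_lit 0x40001c002a003e
def m0_9 : Nat := nat_lit 0x2840000c107
def m0_10 : Nat := nat_lit 0xc0a00003
def n0 : Net := Net.cons 32 m0_0 (Net.cons 16 m0_1 (Net.cons 8 m0_2 (Net.cons 4 m0_3 (Net.cons 2 m0_4 (Net.cons 1 m0_5 (Net.cons 2 m0_6 (Net.cons 4 m0_7 (Net.cons 8 m0_8 (Net.cons 16 m0_9 (Net.cons 32 m0_10 (Net.nil)))))))))))

def m1_0 : Nat := nat_lit 0x3c000012
def m1_1 : Nat := nat_lit 0x1e000008190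
def m1_2 : Nat := nat_lit 0x24000c001400fe
def m1_3 : Nat := nat_lit 0x3040402020b0108
def m1_4 : Nat := nat_lit 0x220310131320303
def m1_5 : Nat := nat_lit 0x11000000000
def m1_6 : Nat := nat_lit 0x10000000000
def m1_7 : Nat := nat_lit 0x200040202010801
def m1_8 : Nat := nat_lit 0x24000400140001
def m1_9 : Nat := nat_lit 0x1e000008190
def m1_10 : Nat := nat_lit 0x3c000012
def n1 : Net := Net.cons 32 m1_0 (Net.cons 16 m1_1 (Net.cons 8 m1_2 (Net.cons 4 m1_3 (Net.cons 2 m1_4 (Net.cons 1 m1_5 (Net.cons 2 m1_6 (Net.cons 4 m1_7 (Net.cons 8 m1_8 (Net.cons 16 m1_9 (Net.cons 32 m1_10 (Net.nil)))))))))))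

def m2_0 : Nat := nat_lit 0x210000a6
def m2_1 : Nat := nat_lit 0x210000040a6
def m2_2 : Nat := nat_lit 0x10048009200fe
def m2_3 : Nat := nat_lit 0x20109060d0f0104
def m2_4 : Nat := nat_lit 0x200100002101
def m2_5 : Nat := nat_lit 0x44445004444
def m2_6 : Nat := nat_lit 0x100000121
def m2_7 : Nat := nat_lit 0x80401000401
def m2_8 : Nat := nat_lit 0x1000800920001
def m2_9 : Nat := nat_lit 0x210000040a6
def m2_10 : Nat := nat_lit 0x210000a6
def n2 : Net := Net.cons 32 m2_0 (Net.cons 16 m2_1 (Net.cons 8 m2_2 (Net.cons 4 m2_3 (Net.cons 2 m2_4 (Net.cons 1 m2_5 (Net.cons 2 m2_6 (Net.cons 4 m2_7 (Net.cons 8 m2_8 (Net.cons 16 m2_9 (Net.cons 32 m2_10 (Net.nil)))))))))))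

def cl1 : Nat := nat_lit 0xffffffffffff
def tt1 : Nat := nat_lit 0xd36491542
def tm1_0 : Nat := nat_lit 0xcdd76491542
def tm1_1 : Nat := nat_lit 0xd99249040000
def tm1_2 : Nat := nat_lit 0x266080000000
def ip1_0 : Nat := nat_lit 0xc40f3e491542
def ip1_1 : Nat := nat_lit 0xeeb2c8000000
def ip1_2 : Nat := nat_lit 0x114001040000
def ip1 : List Nat := [ip1_0, ip1_1, ip1_2]
def l1 : Let := ⟨0, false, cl1, tt1, [tm1_0, tm1_1, tm1_2]⟩

def cl2 : Nat := nat_lit 0xffffffffffff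
def tt2 : Nat := nat_lit 0x154001966214
def tm2_0 : Nat := nat_lit 0xf772c9966214
def tm2_1 : Nat := nat_lit 0xeaaaaa698000
def tm2_2 : Nat := nat_lit 0x1040000000
def ip2_0 : Nat := nat_lit 0x3fe0c1b6e214
def ip2_1 : Nat := nat_lit 0x2aa0c0618000
def ip2_2 : Nat := nat_lit 0xc01a2a080000
def ip2 : List Nat := [ip2_0, ip2_1, ip2_2]
def l2 : Let := ⟨1, false, cl2, tt2, [tm2_0, tm2_1, tm2_2]⟩

def cl3 : Nat := nat_lit 0xffffffffffff
def tt3 : Nat := nat_lit 0xeab2c82088a8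
def tm3_0 : Nat := nat_lit 0xfbb2c8a2aaa8
def tm3_1 : Nat := nat_lit 0x410c33300
def tm3_2 : Nat := nat_lit 0x110000000000
def ip3_0 : Nat := nat_lit 0xfab2c820aaa8
def ip3_1 : Nat := nat_lit 0x100410413300
def ip3_2 : Nat := nat_lit 0x10000820000
def ip3 : List Nat := [ip3_0, ip3_1, ip3_2]
def l3 : Let := ⟨2, false, cl3, tt3, [tm3_0, tm3_1, tm3_2]⟩

def NT : List Net := [n0, n1, n2]
def LT : List Let := [⟨0, false, 0, 0, []⟩, l1, l2, l3]
def T : Tab := ⟨NT, LT⟩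
def EX : List (List Nat) := [[], [0], [2], [4]]
def RL : List (List Nat) := [[4, 2, 0, 2, 4, 0, 2, 0], [4, 0, 4, 0, 4, 0]]
def XL : List (List Nat) := []
def BW : List (List Nat) := []
def IV : Nat := 0x3020100
def L : List Nat := [1, 2, 3]
def gs : List Nat := [1, 2, 3]
def base : List Nat := []

end Cfsg.Agent.Spor.M11b
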